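import Groth.Prelude.Def_ega3
import Groth.Prelude.Def_DRing2
import Mathlib.Algebra.Homology.HomotopyCategory.MappingCone
import Mathlib.Algebra.Category.ModuleCat.Abelian
import Mathlib.Data.List.Perm.Basic

/-!
# Permutations of Koszul complexes and null homotopies of multiplications
-/

universe u

open CategoryTheory CochainComplex CochainComplex.HomComplex

namespace Groth.Agent.H1KoszPerm

variable {A : Type u} [CommRing A]

variable (X : CochainComplex (ModuleCat.{u} A) ℤ) (a b : A)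

/-- The swap of two cones of multiplications. -/
noncomputable def swap :
    mappingCone (a • 𝟙 (mappingCone (b • 𝟙 X))) ⟶ mappingCone (b • 𝟙 (mappingCone (a • 𝟙 X))) :=
  mappingCone.desc _
    (mappingCone.descCochain (b • 𝟙 X)
      (-((mappingCone.inl (a • 𝟙 X)).comp (mappingCone.inl (b • 𝟙 (mappingCone (a • 𝟙 X)))) (show (-1 : ℤ) + -1 = -2 by norm_num)))
      ((mappingCone.inl (a • 𝟙 X)).comp (Cochain.ofHom (mappingCone.inr (b • 𝟙 (mappingCone (a • 𝟙 X))))) (add_zero (-1)))
      (show (-2 : ℤ) + 1 = -1 by norm_num))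
    (mappingCone.map (b • 𝟙 X) (b • 𝟙 (mappingCone (a • 𝟙 X))) (mappingCone.inr (a • 𝟙 X))
      (mappingCone.inr (a • 𝟙 X)) (by simp))
    (by
      rw [mappingCone.δ_descCochain _ _ _ _ 0 (by norm_num)]
      simp only [δ_neg, δ_comp_zero_cochain (mappingCone.inl (a • 𝟙 X)) (Cochain.ofHom (mappingCone.inr (b • 𝟙 (mappingCone (a • 𝟙 X))))) 0 (by norm_num), δ_ofHom, Cochain.comp_zero, zero_add,
        mappingCone.δ_inl,
        δ_comp (mappingCone.inl (a • 𝟙 X)) (mappingCone.inl (b • 𝟙 (mappingCone (a • 𝟙 X))))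
          (show (-1 : ℤ) + -1 = -2 by norm_num) 0 0 (-1) (by norm_num) (by norm_num) (by norm_num)]
      refine Cochain.ext₀ _ _ fun p => ?_
      simp [mappingCone.map, Cochain.comp_v _ _ (show (1 : ℤ) + -1 = 0 by norm_num) p (p + 1) p (by omega) (by omega)]
      rw [mappingCone.ext_from_iff _ (p + 1) p rfl]
      constructor <;> simp [Cochain.comp_v _ _ (show (0 : ℤ) + -1 = -1 by norm_num)])

theorem swap_swap : swap X a b ≫ swap X b a = 𝟙 _ := by
  ext p : 1
  rw [mappingCone.ext_from_iff _ (p + 1) p rfl]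
  constructor
  · rw [mappingCone.ext_from_iff _ (p + 2) (p + 1) (by omega)]
    constructor
    · simp [swap, mappingCone.map, Cochain.comp_v _ _ (show (-1 : ℤ) + -1 = -2 by norm_num) (p + 2) (p + 1) p (by omega) (by omega)]
    · simp [swap, mappingCone.map]
  · rw [mappingCone.ext_from_iff _ (p + 1) p rfl]
    constructor <;> simp [swap, mappingCone.map]

/-- The swap isomorphism. -/
noncomputable def swapIso :
    mappingCone (a • 𝟙 (mappingCone (b • 𝟙 X))) ≅ mappingCone (b • 𝟙 (mappingCone (a • 𝟙 X))) :=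
  ⟨swap X a b, swap X b a, swap_swap X a b, swap_swap X b a⟩

variable {X}

/-- Cones of a multiplication on isomorphic complexes. -/
noncomputable def coneIso {Y : CochainComplex (ModuleCat.{u} A) ℤ} (e : X ≅ Y) :
    mappingCone (a • 𝟙 X) ≅ mappingCone (a • 𝟙 Y) where
  hom := mappingCone.map _ _ e.hom e.hom (by simp)
  inv := mappingCone.map _ _ e.inv e.inv (by simp)
  hom_inv_id := by simp [← mappingCone.map_comp, mappingCone.map_id]
  inv_hom_id := by simp [← mappingCone.map_comp, mappingCone.map_id]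

theorem koszulCx_perm (M : ModuleCat.{u} A) {l l' : List A} (h : l.Perm l') :
    Nonempty (CohIII.koszulCx M l ≅ CohIII.koszulCx M l') := by
  induction h with
  | nil => exact ⟨Iso.refl _⟩
  | cons x _ ih => exact ⟨coneIso x ih.some⟩
  | swap x y l => exact ⟨swapIso (CohIII.koszulCx M l) y x⟩
  | trans _ _ ih₁ ih₂ => exact ⟨ih₁.some ≪≫ ih₂.some⟩

/-- Multiplication by `a` is null homotopic. -/
def Null (a : A) (X : CochainComplex (ModuleCat.{u} A) ℤ) : Prop :=
  ∃ h : Cochain X X (-1), δ (-1) 0 h = Cochain.ofHom (a • 𝟙 X)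

theorem null_cone : Null a (mappingCone (a • 𝟙 X)) := by
  refine ⟨(mappingCone.snd (a • 𝟙 X)).comp (mappingCone.inl (a • 𝟙 X)) (zero_add (-1)), ?_⟩
  rw [δ_zero_cochain_comp _ _ 0 (by norm_num), mappingCone.δ_inl, mappingCone.δ_snd]
  refine Cochain.ext₀ _ _ fun p => ?_
  simp [Cochain.comp_v _ _ (show (1 : ℤ) + -1 = 0 by norm_num) p (p + 1) p (by omega) (by omega)]
  rw [mappingCone.ext_from_iff _ (p + 1) p rfl]
  constructor <;> simp

theorem Null.of_iso {Y : CochainComplex (ModuleCat.{u} A) ℤ} (e : X ≅ Y) (hX : Null a X) : Null a Y := by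
  obtain ⟨h, hh⟩ := hX
  refine ⟨((Cochain.ofHom e.inv).comp h (zero_add (-1))).comp (Cochain.ofHom e.hom) (add_zero (-1)), ?_⟩
  rw [δ_comp_ofHom, δ_ofHom_comp, hh]
  ext p
  simp

theorem null_of_mem_span {s : Set A} (hs : ∀ x ∈ s, Null x X) {y : A} (hy : y ∈ Ideal.span s) : Null y X := by
  induction hy using Submodule.span_induction with
  | mem x hx => exact hs x hx
  | zero => exact ⟨0, by ext p; simp⟩
  | add x z _ _ hx hz =>
    obtain ⟨h, hh⟩ := hx
    obtain ⟨k, hk⟩ := hz
    exact ⟨h + k, by rw [δ_add, hh, hk, add_smul, Cochain.ofHom_add]⟩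
  | smul c x _ hx =>
    obtain ⟨h, hh⟩ := hx
    exact ⟨c • h, by rw [δ_smul, hh]; ext p; simp [smul_smul]⟩

theorem null_koszulCx (M : ModuleCat.{u} A) {l : List A} {x : A} (hx : x ∈ l) : Null x (CohIII.koszulCx M l) := by
  obtain ⟨s, t, rfl⟩ := List.mem_iff_append.1 hx
  obtain ⟨e⟩ := koszulCx_perm M (List.perm_middle (a := x) (l₁ := s) (l₂ := t))
  exact Null.of_iso x e.symm (null_cone x)

/-- A retraction of the cone of a null homotopic multiplication. -/
theorem exists_retraction {y : A} (hy : Null y X) :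
    ∃ r : mappingCone (y • 𝟙 X) ⟶ X, mappingCone.inr (y • 𝟙 X) ≫ r = 𝟙 X := by
  obtain ⟨h, hh⟩ := hy
  exact ⟨mappingCone.desc _ h (𝟙 X) (by rw [hh, Category.comp_id]), mappingCone.inr_desc _ _ _ _⟩

end Groth.Agent.H1KoszPerm
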