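import Groth.Agent.H1KoszPerm.Basic
import Mathlib.Algebra.Homology.DerivedCategory.HomologySequence
import Mathlib.Algebra.Category.Grp.Abelian
import Mathlib.Algebra.Category.ModuleCat.Biproducts
import Mathlib.LinearAlgebra.Pi
import Mathlib.Algebra.Homology.ShortComplex.ModuleCat
import Mathlib.SetTheory.Cardinal.Finite
import Mathlib.Data.Nat.Choose.Basic
import Mathlib.Algebra.Category.ModuleCat.EnoughInjectives
import Mathlib.CategoryTheory.Abelian.GrothendieckCategory.ModuleEmbedding.GabrielPopescu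

/-!
# Koszul homology with redundant elements
-/

universe u

open CategoryTheory CochainComplex CategoryTheory.Pretriangulated

attribute [local instance] HasDerivedCategory.standard

namespace Groth.Agent.H1KoszPerm

variable {A : Type u} [CommRing A]

/-- Homology of the cone of a null homotopic multiplication. -/
theorem nonempty_homology_cone (X : CochainComplex (ModuleCat.{u} A) ℤ) {y : A} (hy : Null y X) (n : ℤ) :
    Nonempty ((mappingCone (y • 𝟙 X)).homology n ≃ₗ[A] X.homology n × X.homology (n + 1)) := by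
  obtain ⟨r, hr⟩ := exists_retraction hy
  let φ := y • 𝟙 X
  let T := DerivedCategory.Q.mapTriangle.obj (mappingCone.triangle φ)
  have hT : T ∈ distinguishedTriangles := DerivedCategory.mappingCone_triangle_distinguished φ
  let H := fun i : ℤ => DerivedCategory.homologyFunctor (ModuleCat.{u} A) i
  let e : ∀ (Y : CochainComplex (ModuleCat.{u} A) ℤ) (i : ℤ), (H i).obj (DerivedCategory.Q.obj Y) ≅ Y.homology i :=
    fun Y i => (DerivedCategory.homologyFunctorFactors (ModuleCat.{u} A) i).app Y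
  let b₀ : (H n).obj (DerivedCategory.Q.obj X) ⟶ (H n).obj (DerivedCategory.Q.obj (mappingCone φ)) :=
    (H n).map T.mor₂
  let r₀ : (H n).obj (DerivedCategory.Q.obj (mappingCone φ)) ⟶ (H n).obj (DerivedCategory.Q.obj X) :=
    (H n).map (DerivedCategory.Q.map r)
  let δ₀ : (H n).obj (DerivedCategory.Q.obj (mappingCone φ)) ⟶ (H (n + 1)).obj (DerivedCategory.Q.obj X) :=
    DerivedCategory.HomologySequence.δ T n (n + 1) rfl
  have hbr : b₀ ≫ r₀ = 𝟙 _ := by
    show (H n).map (DerivedCategory.Q.map (mappingCone.inr φ)) ≫ (H n).map (DerivedCategory.Q.map r) = 𝟙 _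
    rw [← Functor.map_comp, ← Functor.map_comp, hr, CategoryTheory.Functor.map_id, CategoryTheory.Functor.map_id]
  have hφ0 : DerivedCategory.Q.map φ = 0 := by
    have h1 : T.mor₁ ≫ T.mor₂ = 0 := comp_distTriang_mor_zero₁₂ _ hT
    have h2 : φ = (φ ≫ mappingCone.inr φ) ≫ r := by rw [Category.assoc, hr, Category.comp_id]
    rw [h2, Functor.map_comp, Functor.map_comp,
      show DerivedCategory.Q.map φ ≫ DerivedCategory.Q.map (mappingCone.inr φ) = 0 from h1, Limits.zero_comp]
  have hδ : Function.Surjective δ₀ := fun v => by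
    have hx := (ShortComplex.ShortExact.moduleCat_exact_iff_function_exact _).1
      (DerivedCategory.HomologySequence.exact₁ T hT n (n + 1) rfl)
    refine (hx v).1 ?_
    show (H (n + 1)).map (DerivedCategory.Q.map φ) v = 0
    rw [hφ0, Functor.map_zero]
    rfl
  have hexact := (ShortComplex.ShortExact.moduleCat_exact_iff_function_exact _).1
    (DerivedCategory.HomologySequence.exact₃ T hT n (n + 1) rfl)
  have hrb : ∀ w, r₀ (b₀ w) = w := fun w => ConcreteCategory.congr_hom hbr w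
  have hδb : ∀ w, δ₀ (b₀ w) = 0 := fun w => (hexact _).2 ⟨w, rfl⟩
  refine ⟨(e (mappingCone φ) n).toLinearEquiv.symm ≪≫ₗ
    LinearEquiv.ofBijective (r₀.hom.prod δ₀.hom) ⟨?_, ?_⟩ ≪≫ₗ
    (e X n).toLinearEquiv.prodCongr (e X (n + 1)).toLinearEquiv⟩
  · rw [injective_iff_map_eq_zero]
    intro z hz
    obtain ⟨hz1, hz2⟩ := Prod.mk.inj hz
    obtain ⟨w, rfl⟩ := (hexact z).1 hz2
    rw [show w = 0 from (hrb w).symm.trans hz1]
    exact map_zero b₀.hom
  · rintro ⟨w, v⟩
    obtain ⟨z, rfl⟩ := hδ v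
    refine ⟨z - b₀ (r₀ z) + b₀ w, Prod.ext ?_ ?_⟩
    · show r₀ (z - b₀ (r₀ z) + b₀ w) = w
      rw [map_add, map_sub, hrb, hrb, sub_self, zero_add]
    · show δ₀ (z - b₀ (r₀ z) + b₀ w) = δ₀ z
      rw [map_add, map_sub, hδb, hδb, sub_zero, add_zero]

/-- The index of the summands. -/
def Idx : ℕ → Type
  | 0 => Unit
  | r + 1 => Idx r ⊕ Idx r

/-- The degree of a summand. -/
def deg : ∀ r : ℕ, Idx r → ℕ
  | 0, _ => 0
  | r + 1, Sum.inl i => deg r i
  | r + 1, Sum.inr i => deg r i + 1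

theorem deg_le : ∀ (r : ℕ) (i : Idx r), deg r i ≤ r
  | 0, _ => le_refl 0
  | r + 1, Sum.inl i => (deg_le r i).trans (Nat.le_succ r)
  | r + 1, Sum.inr i => Nat.succ_le_succ (deg_le r i)

instance finite_idx : ∀ r : ℕ, Finite (Idx r)
  | 0 => inferInstanceAs (Finite Unit)
  | r + 1 => haveI := finite_idx r; inferInstanceAs (Finite (Idx r ⊕ Idx r))

theorem card_deg : ∀ r j : ℕ, Nat.card {i : Idx r // deg r i = j} = r.choose j
  | 0, 0 => by
    haveI : Unique {i : Idx 0 // deg 0 i = 0} := ⟨⟨⟨(), rfl⟩⟩, fun _ => Subtype.ext rfl⟩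
    simp
  | 0, j + 1 => by
    haveI : IsEmpty {i : Idx 0 // deg 0 i = j + 1} := ⟨fun i => by have := i.2; simp [deg] at this⟩
    simp
  | r + 1, 0 => by
    refine Eq.trans ?_ ((card_deg r 0).trans (by simp))
    refine Nat.card_congr ⟨fun i => match i with
      | ⟨Sum.inl i, h⟩ => ⟨i, h⟩
      | ⟨Sum.inr i, h⟩ => absurd h (by simp [deg]),
      fun i => ⟨Sum.inl i.1, i.2⟩, ?_, fun _ => rfl⟩
    rintro ⟨i | i, h⟩
    · rfl
    · simp [deg] at h
  | r + 1, j + 1 => by
    refine Eq.trans ?_ ((Nat.card_sum (α := {i : Idx r // deg r i = j + 1}) (β := {i : Idx r // deg r i = j})).trans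
      (by rw [card_deg r (j + 1), card_deg r j, Nat.choose_succ_succ, add_comm]))
    refine Nat.card_congr ⟨fun i => match i with
      | ⟨Sum.inl i, h⟩ => Sum.inl ⟨i, h⟩
      | ⟨Sum.inr i, h⟩ => Sum.inr ⟨i, Nat.succ_injective h⟩,
      fun i => match i with
      | Sum.inl i => ⟨Sum.inl i.1, i.2⟩
      | Sum.inr i => ⟨Sum.inr i.1, congrArg (· + 1) i.2⟩, ?_, ?_⟩
    · rintro ⟨i | i, h⟩ <;> rfl
    · rintro (i | i) <;> rfl

/-- Koszul homology after prepending redundant elements. -/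
theorem nonempty_homology_append (M : ModuleCat.{u} A) (xs : List A) :
    ∀ (ys : List A), (∀ y ∈ ys, y ∈ Ideal.span {a | a ∈ xs}) → ∀ m : ℤ,
      Nonempty ((CohIII.koszulCx M (ys ++ xs)).homology m ≃ₗ[A]
        ((i : Idx ys.length) → (CohIII.koszulCx M xs).homology (m + deg ys.length i)))
  | [], _, m => by
    refine ⟨?_ ≪≫ₗ (LinearEquiv.funUnique Unit A ((CohIII.koszulCx M xs).homology (m + (0 : ℕ)))).symm⟩
    exact ((CategoryTheory.eqToIso (congrArg (fun k => (CohIII.koszulCx M xs).homology k) (by simp :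
      m = m + ((0 : ℕ) : ℤ))))).toLinearEquiv
  | y :: ys, hy, m => by
    obtain ⟨e₀⟩ := nonempty_homology_append M xs ys (fun z hz => hy z (List.mem_cons_of_mem _ hz)) m
    obtain ⟨e₁⟩ := nonempty_homology_append M xs ys (fun z hz => hy z (List.mem_cons_of_mem _ hz)) (m + 1)
    have hnull : Null y (CohIII.koszulCx M (ys ++ xs)) :=
      null_of_mem_span (fun x hx => null_koszulCx M (List.mem_append_right _ hx)) (hy y List.mem_cons_self)
    obtain ⟨c⟩ := nonempty_homology_cone _ hnull m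
    refine ⟨c ≪≫ₗ e₀.prodCongr e₁ ≪≫ₗ ?_ ≪≫ₗ
      (LinearEquiv.sumPiEquivProdPi A (Idx ys.length) (Idx ys.length)
        (fun i => (CohIII.koszulCx M xs).homology (m + deg (ys.length + 1) i))).symm⟩
    exact (LinearEquiv.refl A _).prodCongr (LinearEquiv.piCongrRight fun i =>
      (CategoryTheory.eqToIso (congrArg (fun k => (CohIII.koszulCx M xs).homology k)
        (show m + 1 + (deg ys.length i : ℤ) = m + ((deg ys.length i + 1 : ℕ) : ℤ) by push_cast; ring))).toLinearEquiv)

/-- Regrouping by degree. -/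
theorem nonempty_regroup (r : ℕ) (P : ℕ → ModuleCat.{u} A) :
    Nonempty (((i : Idx r) → P (deg r i)) ≃ₗ[A] ((j : Fin (r + 1)) → Fin (r.choose j) → P j)) := by
  have e : ∀ j : Fin (r + 1), Fin (r.choose j) ≃ {i : Idx r // deg r i = j} := fun j =>
    ((Finite.equivFinOfCardEq (card_deg r j)).symm)
  let f : (Σ j : Fin (r + 1), Fin (r.choose j)) ≃ Idx r :=
    (Equiv.sigmaCongrRight e).trans
      { toFun := fun s => s.2.1
        invFun := fun i => ⟨⟨deg r i, Nat.lt_succ_of_le (deg_le r i)⟩, i, rfl⟩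
        left_inv := by rintro ⟨⟨j, hj⟩, i, hi⟩; obtain rfl : deg r i = j := hi; rfl
        right_inv := fun _ => rfl }
  have hf : ∀ s, deg r (f s) = (s.1 : ℕ) := fun s => (e s.1 s.2).2
  exact ⟨(LinearEquiv.piCongrLeft A (fun i => P (deg r i)) f).symm ≪≫ₗ
    LinearEquiv.piCongrRight (fun s => (CategoryTheory.eqToIso (congrArg P (hf s))).toLinearEquiv) ≪≫ₗ
    LinearEquiv.piCurry A (fun (j : Fin (r + 1)) (_ : Fin (r.choose j)) => (P j : Type u))⟩

end Groth.Agent.H1KoszPerm
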